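import Cfsg.Agent.H145.BR.Count
import Cfsg.Agent.Characters.GaloisIrr
import Cfsg.Agent.CharactersDeep.RChar

/-!
# S4829: the criterion at the level of `G` (helper125)

`Cyc p χ` : `χ` has values in the field of `p`-th roots of unity, in the form of S4829.

`b0_sum` : for a character `Ψ` with `Ψ(y) ≡ Ψ(1)` on the `p`-regular elements `y` of `C_G(P)`, the degree of the
`B0`-part of `Ψ` is congruent to `Ψ(1)` modulo `p`.

`crit` : `Ψ` fixed by the Galois group over `ℚ(ζ_p)`, `Ψ_N` multiplicity free, with all its constituents nonlinear and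
`Cyc p`: a constituent of `Ψ` in the principal block, of degree prime to `p`, nonlinear, `Cyc p`.
-/

set_option autoImplicit false
set_option linter.unusedSectionVars false

open Subgroup
open scoped ComplexConjugate

namespace Cfsg.Agent.H125.PC

open Cfsg
open Cfsg.Agent.Blocks.Blau Cfsg.Agent.Blocks.Local Cfsg.Agent.Characters Cfsg.Agent.H145.BR

universe u v

variable {p : ℕ} [hp : Fact p.Prime] {M : Ideal AlgInt} {G : Type u} [Group G] [Finite G]

/-- `p`-cyclotomic valued, as in S4829 -/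
def Cyc (p : ℕ) {G : Type u} [Group G] (χ : G → ℂ) : Prop :=
  ∀ k : ℕ, Nat.Coprime k (Nat.card G) → k ≡ 1 [MOD p] → ∀ g : G, χ (g ^ k) = χ g

/-- the `B0`-part and the sum over the `p`-regular elements -/
theorem sum_sub_reg (hM : IsPModular p M) [Fintype G] [Fintype (IrrCharacter G)]
    [DecidablePred (· ∈ principalBlock M G)] (Φ : G → ℂ)
    (k : IrrCharacter G → ℤ) (hΦ : ∀ g, Φ g = ∑ χ : IrrCharacter G, (k χ : ℂ) * (χ : G → ℂ) g) :
    MemLocalIdeal M ((((∑ χ : IrrCharacter G, if χ ∈ principalBlock M G then k χ * (charDegree (χ : G → ℂ) : ℤ) else 0) *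
      (Nat.card {x : G // ¬ p ∣ orderOf x} : ℤ) : ℤ) : ℂ) - ∑ g : G, regPart p Φ g) := by
  classical
  have hMp : M.IsPrime := isPrime_of_isPModular hM
  have h1 : ∑ g : G, regPart p Φ g = ∑ χ : IrrCharacter G, (k χ : ℂ) * ∑ g : G, regPart p (χ : G → ℂ) g := by
    have h2 : ∀ g : G, regPart p Φ g = ∑ χ : IrrCharacter G, (k χ : ℂ) * regPart p (χ : G → ℂ) g := by
      intro g
      by_cases hg : p ∣ orderOf g
      · rw [regPart_of_dvd hg, Finset.sum_eq_zero]
        intro i _
        rw [regPart_of_dvd hg, mul_zero]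
      · rw [regPart_of_not_dvd hg, hΦ]
        refine Finset.sum_congr rfl fun i _ => ?_
        rw [regPart_of_not_dvd hg]
    rw [Finset.sum_congr rfl fun g _ => h2 g, Finset.sum_comm]
    exact Finset.sum_congr rfl fun χ _ => by rw [Finset.mul_sum]
  have key : ∀ χ : IrrCharacter G, MemLocalIdeal M
      ((((if χ ∈ principalBlock M G then k χ * (charDegree (χ : G → ℂ) : ℤ) else 0) *
        (Nat.card {x : G // ¬ p ∣ orderOf x} : ℤ) : ℤ) : ℂ) - (k χ : ℂ) * ∑ g : G, regPart p (χ : G → ℂ) g) := by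
    intro χ
    by_cases hχ : χ ∈ principalBlock M G
    · rw [if_pos hχ]
      have h2 := pair_div_sub_pair_div hM (H893.Sd.one G).2 χ.2 (Core.isIrr_isCharacter (H893.Sd.one G).2) hχ
      have h3 : pair p ((H893.Sd.one G : IrrCharacter G) : G → ℂ) ((H893.Sd.one G : IrrCharacter G) : G → ℂ) =
        (Nat.card {x : G // ¬ p ∣ orderOf x} : ℂ) := H893.Sd.pair_one_one p
      have h4 : ((H893.Sd.one G : IrrCharacter G) : G → ℂ) 1 = 1 := rfl
      have h5 : pair p (χ : G → ℂ) ((H893.Sd.one G : IrrCharacter G) : G → ℂ) = ∑ g : G, regPart p (χ : G → ℂ) g :=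
        H893.Sd.pair_one p _
      rw [h3, h4, h5, div_one] at h2
      have h6 : (χ : G → ℂ) 1 ≠ 0 := apply_one_ne_zero χ
      have h7 := memLocalIdeal_mul_left (memLocalRing_intCast (M := M) (k χ * (charDegree (χ : G → ℂ) : ℤ))) h2
      have h8 : ((k χ * (charDegree (χ : G → ℂ) : ℤ) : ℤ) : ℂ) * ((Nat.card {x : G // ¬ p ∣ orderOf x} : ℂ) -
          (∑ g : G, regPart p (χ : G → ℂ) g) / (χ : G → ℂ) 1) =
          (((k χ * (charDegree (χ : G → ℂ) : ℤ)) * (Nat.card {x : G // ¬ p ∣ orderOf x} : ℤ) : ℤ) : ℂ) -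
            (k χ : ℂ) * ∑ g : G, regPart p (χ : G → ℂ) g := by
        rw [charDegree_cast'] at h6 ⊢
        push_cast
        field_simp
      rw [h8] at h7
      exact h7
    · rw [if_neg hχ, zero_mul, Int.cast_zero, zero_sub]
      have h2 : ∑ g : G, regPart p (χ : G → ℂ) g = 0 := by
        by_contra h3
        exact hχ ((H893.Sd.mem_iff hM χ).2 h3)
      rw [h2, mul_zero, neg_zero]
      exact memLocalIdeal_zero
  have h2 := memLocalIdeal_sum (M := M) (s := Finset.univ) fun χ _ => key χ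
  rw [Finset.sum_sub_distrib, ← h1, ← Int.cast_sum, ← Finset.sum_mul] at h2
  exact h2

/-- a class function with algebraic integer values, summed over the `p`-regular elements: only `C_G(P)` matters -/
theorem reg_sub_cent (hM : IsPModular p M) [Fintype G] (P : Sylow p G) {Φ : G → ℂ} (hΦ : IsCharacter G Φ) :
    MemLocalIdeal M ((∑ g : G, regPart p Φ g) -
      ∑ g : G, @ite ℂ (g ∈ centralizer ((P : Subgroup G) : Set G)) (Classical.dec _) (regPart p Φ g) 0) := by
  classical
  have hMp : M.IsPrime := isPrime_of_isPModular hM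
  let _ : MulAction (P : Subgroup G) G := MulAction.compHom G ((MulAut.conj : G →* MulAut G).comp (P : Subgroup G).subtype)
  have hsm : ∀ (u : (P : Subgroup G)) (x : G), u • x = (u : G) * x * (u : G)⁻¹ := fun _ _ => rfl
  have hcl := Core.isCharacter_isClassFunction hΦ
  have h1 := H687.sum_fixed (Γ := (P : Subgroup G)) (X := G) P.2 (regPart p Φ) (by
    intro u x
    rw [hsm]
    have ho : orderOf ((u : G) * x * (u : G)⁻¹) = orderOf x := orderOf_conj'' _ _
    by_cases hx : p ∣ orderOf x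
    · rw [regPart_of_dvd hx, regPart_of_dvd (ho.symm ▸ hx)]
    · rw [regPart_of_not_dvd hx, regPart_of_not_dvd (ho.symm ▸ hx)]
      exact hcl x u) (by
    intro x
    by_cases hx : p ∣ orderOf x
    · rw [regPart_of_dvd hx]
      exact isIntegral_zero
    · rw [regPart_of_not_dvd hx]
      exact Cfsg.Agent.CharactersDeep.RChar.isIntegral_character hΦ x)
  obtain ⟨z, hz, h2⟩ := h1
  have h3 : ∀ x : G, (x ∈ MulAction.fixedPoints (P : Subgroup G) G) ↔ x ∈ centralizer ((P : Subgroup G) : Set G) := by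
    intro x
    rw [MulAction.mem_fixedPoints, mem_centralizer_iff]
    constructor
    · intro h g hg
      have := h ⟨g, hg⟩
      rw [hsm] at this
      exact mul_inv_eq_iff_eq_mul.1 this
    · intro h u
      rw [hsm]
      exact mul_inv_eq_iff_eq_mul.2 (h u u.2)
  rw [h2]
  have h4 : (∑ x : G, if x ∈ MulAction.fixedPoints (P : Subgroup G) G then regPart p Φ x else 0) =
      ∑ g : G, @ite ℂ (g ∈ centralizer ((P : Subgroup G) : Set G)) (Classical.dec _) (regPart p Φ g) 0 := by
    refine Finset.sum_congr rfl fun x _ => ?_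
    by_cases hx : x ∈ centralizer ((P : Subgroup G) : Set G)
    · rw [if_pos ((h3 x).2 hx), if_pos hx]
    · rw [if_neg (fun h => hx ((h3 x).1 h)), if_neg hx]
  rw [h4, add_sub_cancel_left]
  exact Blocks.LocalRing.memLocalIdeal_mul_right hM
    ((Blocks.LocalRing.memLocalIdeal_natCast_iff hM p).2 dvd_rfl)
    (Blocks.LocalRing.memLocalRing_of_isIntegral hM hz)

/-- the number of the `p`-regular elements of `C_G(P)` -/
theorem card_reg_cent (hM : IsPModular p M) [Fintype G] (P : Sylow p G) :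
    MemLocalIdeal M ((Nat.card {x : G // ¬ p ∣ orderOf x} : ℂ) -
      ∑ g : G, @ite ℂ (g ∈ centralizer ((P : Subgroup G) : Set G)) (Classical.dec _)
        (regPart p (fun _ : G => (1 : ℂ)) g) 0) := by
  have h1 := reg_sub_cent hM P (Φ := fun _ : G => (1 : ℂ)) (Core.isIrr_isCharacter (H893.Sd.one G).2)
  have h2 : ∑ g : G, regPart p (fun _ : G => (1 : ℂ)) g = (Nat.card {x : G // ¬ p ∣ orderOf x} : ℂ) := by
    rw [← H893.Sd.pair_one, H893.Sd.pair_one_one]
  rw [h2] at h1
  exact h1

/-- **the degree of the `B0`-part** of a character which is constant modulo `p` on the `p`-regular elements of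
`C_G(P)` -/
theorem b0_sum (hM : IsPModular p M) [Fintype G] [Fintype (IrrCharacter G)]
    [DecidablePred (· ∈ principalBlock M G)] (P : Sylow p G) {Ψ : G → ℂ} (hΨ : IsCharacter G Ψ)
    (k : IrrCharacter G → ℤ) (hk : ∀ g, Ψ g = ∑ χ : IrrCharacter G, (k χ : ℂ) * (χ : G → ℂ) g)
    (hv : ∀ y ∈ centralizer ((P : Subgroup G) : Set G), ¬ p ∣ orderOf y → MemLocalIdeal M (Ψ 1 - Ψ y)) :
    ∑ χ : IrrCharacter G, k χ * (charDegree (χ : G → ℂ) : ℤ) ≡
      (∑ χ : IrrCharacter G, if χ ∈ principalBlock M G then k χ * (charDegree (χ : G → ℂ) : ℤ) else 0) [ZMOD p] := by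
  classical
  have hMp : M.IsPrime := isPrime_of_isPModular hM
  set A : ℤ := ∑ χ : IrrCharacter G, if χ ∈ principalBlock M G then k χ * (charDegree (χ : G → ℂ) : ℤ) else 0 with hA
  set B : ℤ := ∑ χ : IrrCharacter G, k χ * (charDegree (χ : G → ℂ) : ℤ) with hB
  have hB1 : Ψ 1 = (B : ℂ) := by
    rw [hk, hB, Int.cast_sum]
    refine Finset.sum_congr rfl fun χ _ => ?_
    rw [Int.cast_mul, charDegree_cast']
    rfl
  have h1 := sum_sub_reg hM Ψ k hk
  rw [← hA] at h1
  have h2 := reg_sub_cent hM P hΨ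
  have h3 := card_reg_cent hM P
  have h4 : MemLocalIdeal M ((∑ g : G, @ite ℂ (g ∈ centralizer ((P : Subgroup G) : Set G)) (Classical.dec _)
        (Ψ 1 * regPart p (fun _ : G => (1 : ℂ)) g) 0) -
      ∑ g : G, @ite ℂ (g ∈ centralizer ((P : Subgroup G) : Set G)) (Classical.dec _) (regPart p Ψ g) 0) := by
    rw [← Finset.sum_sub_distrib]
    refine memLocalIdeal_sum (s := Finset.univ) fun g _ => ?_
    by_cases hg : g ∈ centralizer ((P : Subgroup G) : Set G)
    · rw [if_pos hg, if_pos hg]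
      by_cases hg' : p ∣ orderOf g
      · rw [regPart_of_dvd hg', regPart_of_dvd hg', mul_zero, sub_zero]
        exact memLocalIdeal_zero
      · rw [regPart_of_not_dvd hg', regPart_of_not_dvd hg', mul_one]
        exact hv g hg hg'
    · rw [if_neg hg, if_neg hg, sub_zero]
      exact memLocalIdeal_zero
  have h5 : (∑ g : G, @ite ℂ (g ∈ centralizer ((P : Subgroup G) : Set G)) (Classical.dec _)
        (Ψ 1 * regPart p (fun _ : G => (1 : ℂ)) g) 0) =
      Ψ 1 * ∑ g : G, @ite ℂ (g ∈ centralizer ((P : Subgroup G) : Set G)) (Classical.dec _)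
        (regPart p (fun _ : G => (1 : ℂ)) g) 0 := by
    rw [Finset.mul_sum]
    refine Finset.sum_congr rfl fun g _ => ?_
    split_ifs <;> simp
  rw [h5] at h4
  have h6 := memLocalIdeal_mul_left (memLocalRing_intCast (M := M) B) h3
  rw [hB1] at h4
  have h7 := memLocalIdeal_sub (memLocalIdeal_add h6 h4) (memLocalIdeal_add h1 h2)
  have h8 : MemLocalIdeal M ((((B - A) * (Nat.card {x : G // ¬ p ∣ orderOf x} : ℤ) : ℤ)) : ℂ) := by
    refine cast (congrArg (MemLocalIdeal M) ?_) h7
    push_cast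
    ring
  rw [memLocalIdeal_intCast_iff hM] at h8
  have h9 : ¬ (p : ℤ) ∣ (Nat.card {x : G // ¬ p ∣ orderOf x} : ℤ) := by
    rw [Int.natCast_dvd_natCast]
    exact Cfsg.Agent.Blocks.RegularCount.not_dvd_card_regular
  have h10 := ((Nat.prime_iff_prime_int.1 hp.out).dvd_or_dvd h8).resolve_right h9
  exact (Int.modEq_iff_dvd.2 (by rw [← neg_sub]; exact (dvd_neg).2 h10))

/-- the inner product of the powers -/
theorem inner_pow {H : Type u} [Group H] [Finite H] [Fintype H] {k : ℕ} (hk : k.Coprime (Nat.card H)) (f g : H → ℂ) :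
    classInner (fun n : H => f (n ^ k)) (fun n : H => g (n ^ k)) = classInner f g := by
  rw [Core.classInner_def, Core.classInner_def]
  congr 1
  exact Equiv.sum_comp (powCoprime hk.symm) (fun n : H => f n * conj (g n))

/-- **The criterion for S4829.** `Ψ` a character of `G`, fixed by the Galois group over `ℚ(ζ_p)`, of degree prime to
`p`, constant modulo `p` on the `p`-regular elements of `C_G(P)`, multiplicity free on the normal subgroup `N`, all
constituents of `Ψ_N` nonlinear and `p`-cyclotomic. -/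
theorem crit (hM : IsPModular p M) (P : Sylow p G) (N : Subgroup G) [Fintype N] {Ψ : G → ℂ}
    (hΨ : IsCharacter G Ψ) (hcyc : Cyc p Ψ) (hdeg : ∃ d : ℕ, Ψ 1 = d ∧ ¬ p ∣ d)
    (hv : ∀ y ∈ centralizer ((P : Subgroup G) : Set G), ¬ p ∣ orderOf y → MemLocalIdeal M (Ψ 1 - Ψ y))
    (hN : ∀ θ : IrrCharacter N, classInner (fun n : N => Ψ n) (θ : N → ℂ) ≠ 0 →
      classInner (fun n : N => Ψ n) (θ : N → ℂ) = 1 ∧ charDegree (θ : N → ℂ) ≠ 1 ∧ Cyc p (θ : N → ℂ)) :
    ∃ χ : IrrCharacter G, χ ∈ principalBlock M G ∧ charDegree (χ : G → ℂ) ≠ 1 ∧ ¬ p ∣ charDegree (χ : G → ℂ) ∧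
      Cyc p (χ : G → ℂ) := by
  classical
  have := Fintype.ofFinite G
  have : Finite (IrrCharacter G) := Core.finite_irr
  have := Fintype.ofFinite (IrrCharacter G)
  obtain ⟨m, hm⟩ := Core.isCharacter_iff.1 hΨ
  have hm' : ∀ g, Ψ g = ∑ χ : IrrCharacter G, (((m χ : ℤ)) : ℂ) * (χ : G → ℂ) g := by
    intro g
    conv_lhs => rw [hm]
    rw [Finset.sum_apply]
    refine Finset.sum_congr rfl fun χ _ => ?_
    rw [Pi.smul_apply, nsmul_eq_mul, Int.cast_natCast]
  obtain ⟨d, hd, hpd⟩ := hdeg
  have hsum := b0_sum hM P hΨ (fun χ => (m χ : ℤ)) hm' hv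
  have hd' : (∑ χ : IrrCharacter G, (m χ : ℤ) * (charDegree (χ : G → ℂ) : ℤ)) = (d : ℤ) := by
    have h1 := hm' 1
    rw [hd] at h1
    have h2 : ((∑ χ : IrrCharacter G, (m χ : ℤ) * (charDegree (χ : G → ℂ) : ℤ) : ℤ) : ℂ) = ((d : ℤ) : ℂ) := by
      rw [Int.cast_natCast, h1, Int.cast_sum]
      refine Finset.sum_congr rfl fun χ _ => ?_
      rw [Int.cast_mul, charDegree_cast']
      rfl
    exact_mod_cast h2
  -- the constituent
  obtain ⟨χ, hχB, hχm, hχp⟩ : ∃ χ : IrrCharacter G, χ ∈ principalBlock M G ∧ m χ ≠ 0 ∧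
      ¬ p ∣ charDegree (χ : G → ℂ) := by
    by_contra hcon
    push Not at hcon
    have h1 : (p : ℤ) ∣ ∑ χ : IrrCharacter G, if χ ∈ principalBlock M G then
        (m χ : ℤ) * (charDegree (χ : G → ℂ) : ℤ) else 0 := by
      refine Finset.dvd_sum fun χ _ => ?_
      by_cases hB : χ ∈ principalBlock M G
      · rw [if_pos hB]
        by_cases hm0 : m χ = 0
        · rw [hm0]
          simp
        · exact Dvd.dvd.mul_left (Int.natCast_dvd_natCast.2 (hcon χ hB hm0)) _
      · rw [if_neg hB]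
        exact dvd_zero _
    rw [hd'] at hsum
    exact hpd (Int.natCast_dvd_natCast.1 ((Int.ModEq.dvd_iff hsum).2 h1))
  -- multiplicities
  have hmul : ∀ χ : IrrCharacter G, classInner Ψ (χ : G → ℂ) = (m χ : ℂ) := by
    intro χ
    rw [hm, Core.classInner_sum_left, Finset.sum_eq_single χ]
    · rw [← Nat.cast_smul_eq_nsmul ℂ, Core.classInner_smul_left, Core.classInner_irr_self χ.2, mul_one]
    · intro ψ _ hψ
      rw [← Nat.cast_smul_eq_nsmul ℂ, Core.classInner_smul_left,
        Core.classInner_irr_ne ψ.2 χ.2 (fun h => hψ (Subtype.ext h)), mul_zero]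
    · intro h
      exact absurd (Finset.mem_univ _) h
  have hres : ∀ χ : IrrCharacter G, IsCharacter N (fun n : N => (χ : G → ℂ) n) := fun χ =>
    Core.isCharacter_comp N.subtype (Core.isIrr_isCharacter χ.2)
  have hnat : ∀ (χ : IrrCharacter G) (θ : IrrCharacter N), ∃ n : ℕ,
      classInner (fun n : N => (χ : G → ℂ) n) (θ : N → ℂ) = n := fun χ θ =>
    Core.classInner_isNat (hres χ) (Core.isIrr_isCharacter θ.2)
  choose r hr using hnat
  have hΨN : ∀ θ : IrrCharacter N, classInner (fun n : N => Ψ n) (θ : N → ℂ) =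
      ((∑ χ : IrrCharacter G, m χ * r χ θ : ℕ) : ℂ) := by
    intro θ
    have h1 : (fun n : N => Ψ n) = ∑ χ : IrrCharacter G, (m χ : ℂ) • (fun n : N => (χ : G → ℂ) n) := by
      funext n
      rw [Finset.sum_apply, hm' n]
      rfl
    rw [h1, Core.classInner_sum_left, Nat.cast_sum]
    refine Finset.sum_congr rfl fun χ _ => ?_
    rw [Core.classInner_smul_left, hr, Nat.cast_mul]
  -- a constituent of the restriction
  obtain ⟨θ, hθ⟩ : ∃ θ : IrrCharacter N, r χ θ ≠ 0 := by
    by_contra hcon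
    push Not at hcon
    have : Finite (IrrCharacter N) := Core.finite_irr
    have := Fintype.ofFinite (IrrCharacter N)
    have h1 := Core.classFunction_eq_sum (Core.isCharacter_isClassFunction (hres χ))
    have h2 := congrFun h1 1
    rw [Finset.sum_apply, Finset.sum_eq_zero] at h2
    · exact apply_one_ne_zero χ h2
    · intro θ _
      rw [Pi.smul_apply, hr, hcon, Nat.cast_zero, zero_smul]
  have hle : m χ * r χ θ ≤ ∑ ψ : IrrCharacter G, m ψ * r ψ θ :=
    Finset.single_le_sum (f := fun ψ : IrrCharacter G => m ψ * r ψ θ) (fun _ _ => Nat.zero_le _) (Finset.mem_univ χ)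
  have hpos : 0 < m χ * r χ θ := Nat.mul_pos (Nat.pos_of_ne_zero hχm) (Nat.pos_of_ne_zero hθ)
  have hne : classInner (fun n : N => Ψ n) (θ : N → ℂ) ≠ 0 := by
    rw [hΨN]
    exact_mod_cast (lt_of_lt_of_le hpos hle).ne'
  obtain ⟨hone, hlin, hθc⟩ := hN θ hne
  have hone' : ∑ ψ : IrrCharacter G, m ψ * r ψ θ = 1 := by
    rw [hΨN] at hone
    exact_mod_cast hone
  refine ⟨χ, hχB, ?_, hχp, ?_⟩
  · -- nonlinear
    intro h1
    apply hlin
    have h2 : r χ θ * charDegree (θ : N → ℂ) ≤ charDegree (χ : G → ℂ) := by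
      have : Finite (IrrCharacter N) := Core.finite_irr
      have := Fintype.ofFinite (IrrCharacter N)
      have h3 := congrFun (Core.classFunction_eq_sum (Core.isCharacter_isClassFunction (hres χ))) 1
      rw [Finset.sum_apply] at h3
      have h4 : ((charDegree (χ : G → ℂ) : ℕ) : ℂ) =
          ((∑ η : IrrCharacter N, r χ η * charDegree (η : N → ℂ) : ℕ) : ℂ) := by
        rw [← charDegree_cast', Nat.cast_sum]
        refine (h3.trans (Finset.sum_congr rfl fun η _ => ?_))
        rw [Pi.smul_apply, hr, smul_eq_mul, charDegree_cast', Nat.cast_mul]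
      have h5 : charDegree (χ : G → ℂ) = ∑ η : IrrCharacter N, r χ η * charDegree (η : N → ℂ) := by
        exact_mod_cast h4
      rw [h5]
      exact Finset.single_le_sum (f := fun η : IrrCharacter N => r χ η * charDegree (η : N → ℂ))
        (fun _ _ => Nat.zero_le _) (Finset.mem_univ θ)
    rw [h1] at h2
    have h3 : 0 < charDegree (θ : N → ℂ) := Nat.pos_of_ne_zero (fun h => apply_one_ne_zero θ (by rw [charDegree_cast', h, Nat.cast_zero]))
    nlinarith [Nat.pos_of_ne_zero hθ]
  · -- cyclotomic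
    intro k hk hkp
    set χ' : IrrCharacter G := ⟨fun g => (χ : G → ℂ) (g ^ k), Cfsg.Agent.Characters.GaloisIrr.isIrr_pow hk χ.2⟩ with hχ'
    by_cases heq : χ' = χ
    · intro g
      exact congrFun (congrArg Subtype.val heq) g
    · exfalso
      have h1 : m χ' = m χ := by
        have h2 : classInner Ψ (χ' : G → ℂ) = classInner Ψ (χ : G → ℂ) := by
          rw [← inner_pow hk Ψ (χ : G → ℂ)]
          congr 1
          funext g
          exact (hcyc k hk hkp g).symm
        rw [hmul, hmul] at h2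
        exact_mod_cast h2
      have h3 : r χ' θ = r χ θ := by
        have hkN : k.Coprime (Nat.card N) := hk.coprime_dvd_right (card_subgroup_dvd_card N)
        have h2 : classInner (fun n : N => (χ' : G → ℂ) n) (θ : N → ℂ) = classInner (fun n : N => (χ : G → ℂ) n) (θ : N → ℂ) := by
          rw [← inner_pow hkN (fun n : N => (χ : G → ℂ) n) (θ : N → ℂ)]
          congr 1
          funext g
          exact (hθc k hkN hkp g).symm
        rw [hr, hr] at h2
        exact_mod_cast h2
      have h4 : m χ * r χ θ + m χ' * r χ' θ ≤ ∑ ψ : IrrCharacter G, m ψ * r ψ θ := by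
        have h5 : ∑ ψ ∈ ({χ, χ'} : Finset (IrrCharacter G)), m ψ * r ψ θ ≤ ∑ ψ : IrrCharacter G, m ψ * r ψ θ :=
          Finset.sum_le_sum_of_subset (Finset.subset_univ _)
        rw [Finset.sum_pair (fun h => heq h.symm)] at h5
        exact h5
      rw [h1, h3, hone'] at h4
      omega

end Cfsg.Agent.H125.PC
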