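import Cfsg.Agent.H125.PC.Crit
import Cfsg.Agent.Characters.EquivOfChar

/-!
# S4829: tensor induction with Galois action (helper125)

* `T_mul` : the generalized permutation-tensor matrices multiply;
* `exists_ten` : the tensor induced character `Ψ` along a cocycle; it is fixed by every automorphism of `ℂ` fixing the
  values of `ψ`;
* `cyc_ten` : `Cyc p ψ` implies `Cyc p Ψ`.
-/

set_option autoImplicit false
set_option linter.unusedSectionVars false

open scoped ComplexConjugate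

namespace Cfsg.Agent.H125.PC

open Cfsg Cfsg.Agent.Characters

universe u v w

section tmat

variable {ι : Type w} [Fintype ι] [DecidableEq ι] {d : ℕ}

/-- the matrix of `⊗ C i` followed by a permutation of the factors -/
def TM (q : Equiv.Perm ι) (C : ι → Matrix (Fin d) (Fin d) ℂ) : Matrix (ι → Fin d) (ι → Fin d) ℂ :=
  Matrix.of fun x y => ∏ i, C i (x (q i)) (y i)

theorem TM_mul (q r : Equiv.Perm ι) (C D : ι → Matrix (Fin d) (Fin d) ℂ) :
    TM q C * TM r D = TM (q * r) (fun i => C (r i) * D i) := by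
  symm
  ext x z
  rw [Matrix.mul_apply]
  simp only [TM, Matrix.of_apply]
  have e1 : ∀ i, (C (r i) * D i) (x ((q * r) i)) (z i) = ∑ k, C (r i) (x (q (r i))) k * D i k (z i) := by
    intro i
    rw [Matrix.mul_apply]
    rfl
  rw [Finset.prod_congr rfl fun i _ => e1 i, Finset.prod_univ_sum, Fintype.piFinset_univ]
  rw [← Equiv.sum_comp (Equiv.arrowCongr r.symm (Equiv.refl (Fin d)))]
  refine Finset.sum_congr rfl fun w _ => ?_
  rw [← Equiv.prod_comp r (fun j => C j (x (q j)) _), ← Finset.prod_mul_distrib]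
  refine Finset.prod_congr rfl fun i _ => ?_
  simp [Equiv.arrowCongr]

theorem TM_one : TM (ι := ι) (d := d) 1 (fun _ => 1) = 1 := by
  ext x y
  change ∏ i, (1 : Matrix (Fin d) (Fin d) ℂ) (x i) (y i) = _
  by_cases hxy : x = y
  · subst hxy
    simp
  · obtain ⟨i, hi⟩ := Function.ne_iff.1 hxy
    rw [Matrix.one_apply_ne hxy]
    exact Finset.prod_eq_zero (Finset.mem_univ i) (Matrix.one_apply_ne hi)

theorem trace_TM_one (C : ι → Matrix (Fin d) (Fin d) ℂ) : Matrix.trace (TM 1 C) = ∏ i, Matrix.trace (C i) := by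
  have h1 : ∏ i, Matrix.trace (C i) = ∏ i, ∑ k, C i k k := rfl
  rw [h1, Finset.prod_univ_sum, Fintype.piFinset_univ]
  rfl

theorem map_trace_TM (σ : ℂ ≃+* ℂ) (q : Equiv.Perm ι) (C : ι → Matrix (Fin d) (Fin d) ℂ) :
    σ (Matrix.trace (TM q C)) = Matrix.trace (TM q fun i => (C i).map σ) := by
  rw [Matrix.trace, Matrix.trace, map_sum]
  refine Finset.sum_congr rfl fun x _ => ?_
  simp [TM, map_prod]

/-- conjugating all factors by the same matrix does not change the trace -/
theorem trace_TM_conj (q : Equiv.Perm ι) (C : ι → Matrix (Fin d) (Fin d) ℂ) (B B' : Matrix (Fin d) (Fin d) ℂ)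
    (hB : B * B' = 1) : Matrix.trace (TM q fun i => B' * C i * B) = Matrix.trace (TM q C) := by
  have h1 : TM q (fun i => B' * C i * B) = TM 1 (fun _ => B') * (TM q C * TM 1 (fun _ => B)) := by
    rw [TM_mul, TM_mul, mul_one, one_mul]
    congr 1
    funext i
    simp [mul_assoc]
  have h2 : TM (ι := ι) 1 (fun _ => B) * TM 1 (fun _ => B') = 1 := by
    rw [TM_mul, mul_one]
    simp only [hB]
    exact TM_one
  rw [h1, Matrix.trace_mul_comm, mul_assoc, h2, mul_one]

end tmat

section tensor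

variable {G : Type u} {A : Type v} {ι : Type w} [Group G] [Group A] [Finite A] [Fintype ι] [DecidableEq ι]

/-- **Tensor induction.** -/
theorem exists_ten (π : G →* Equiv.Perm ι) (a : G → ι → A)
    (ha : ∀ g h i, a (g * h) i = a g (π h i) * a h i) {ψ : A → ℂ} (hψ : IsCharacter A ψ) :
    ∃ Ψ : G → ℂ, IsCharacter G Ψ ∧ (∀ g, π g = 1 → Ψ g = ∏ i, ψ (a g i)) ∧
      ∀ σ : ℂ ≃+* ℂ, (∀ x, σ (ψ x) = ψ x) → ∀ g, σ (Ψ g) = Ψ g := by
  obtain ⟨d, ρ₀, rfl⟩ := hψ
  let R : A →* Matrix (Fin d) (Fin d) ℂ := (LinearMap.toMatrixAlgEquiv' (R := ℂ) (n := Fin d)).toMonoidHom.comp ρ₀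
  have hR : ∀ x, R x = LinearMap.toMatrix' (ρ₀ x) := fun _ => rfl
  have htr : ∀ x, ρ₀.character x = Matrix.trace (R x) := by
    intro x
    have h3 : Matrix.toLin' (R x) = ρ₀ x := Matrix.toLin'_toMatrix' _
    have h4 : LinearMap.trace ℂ _ (Matrix.toLin' (R x)) = Matrix.trace (R x) := Matrix.trace_toLin'_eq _
    rw [h3] at h4
    exact h4
  have ha1 : ∀ i, a 1 i = 1 := by
    intro i
    have := ha 1 1 i
    rw [mul_one, map_one] at this
    exact (mul_eq_right.1 this.symm)
  let Mt : G →* Matrix (ι → Fin d) (ι → Fin d) ℂ :=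
    { toFun := fun g => TM (π g) (fun i => R (a g i))
      map_one' := by
        simp only [map_one, ha1]
        exact TM_one
      map_mul' := by
        intro g h
        rw [TM_mul, map_mul]
        congr 1
        funext i
        rw [ha, map_mul] }
  let ρ : Representation ℂ G ((ι → Fin d) → ℂ) :=
    (Matrix.toLinAlgEquiv' (R := ℂ) (n := (ι → Fin d))).toMonoidHom.comp Mt
  have hρ : ∀ g, ρ.character g = Matrix.trace (TM (π g) (fun i => R (a g i))) := by
    intro g
    change LinearMap.trace ℂ _ (Matrix.toLin' (TM (π g) (fun i => R (a g i)))) = _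
    rw [Matrix.trace_toLin'_eq]
  refine ⟨ρ.character, Core.isCharacter_of_rep ρ, fun g hg => ?_, fun σ hσ g => ?_⟩
  · rw [hρ, hg, trace_TM_one]
    exact Finset.prod_congr rfl fun i _ => (htr _).symm
  · have h1 : (GaloisBasic.twist σ ρ₀).character = ρ₀.character := by
      funext x
      rw [GaloisBasic.twist_character, hσ]
    obtain ⟨e⟩ := EquivOfChar.nonempty_equiv_of_character_eq _ _ h1
    let B : Matrix (Fin d) (Fin d) ℂ := LinearMap.toMatrix' e.toLinearEquiv.toLinearMap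
    let B' : Matrix (Fin d) (Fin d) ℂ := LinearMap.toMatrix' e.toLinearEquiv.symm.toLinearMap
    have hBB' : B * B' = 1 := by
      rw [← LinearMap.toMatrix'_comp, ← LinearMap.toMatrix'_id]
      congr 1
      exact LinearMap.ext fun v => e.toLinearEquiv.apply_symm_apply v
    have hB'B : B' * B = 1 := by
      rw [← LinearMap.toMatrix'_comp, ← LinearMap.toMatrix'_id]
      congr 1
      exact LinearMap.ext fun v => e.toLinearEquiv.symm_apply_apply v
    have h2 : ∀ x, (R x).map σ = B' * R x * B := by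
      intro x
      have h3 : e.toLinearEquiv.toLinearMap ∘ₗ (GaloisBasic.twist σ ρ₀ x) = ρ₀ x ∘ₗ e.toLinearEquiv.toLinearMap := by
        exact LinearMap.ext fun v => congrFun (congrArg DFunLike.coe (e.toIntertwiningMap.isIntertwining' x)) v
      have h4 := congrArg LinearMap.toMatrix' h3
      rw [LinearMap.toMatrix'_comp, LinearMap.toMatrix'_comp] at h4
      have h5 : LinearMap.toMatrix' (GaloisBasic.twist σ ρ₀ x) = (R x).map σ := LinearMap.toMatrix'_toLin' _
      rw [h5] at h4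
      have h6 : B * (R x).map σ = R x * B := h4
      rw [mul_assoc, ← h6, ← mul_assoc, hB'B, one_mul]
    rw [hρ, map_trace_TM]
    simp only [h2]
    exact trace_TM_conj _ _ _ _ hBB'

/-- lifting exponents -/
theorem exists_lift {k n m : ℕ} (hk : k.Coprime n) (hn : n ≠ 0) (hm : m ≠ 0) :
    ∃ k' : ℕ, k' ≡ k [MOD n] ∧ k'.Coprime (n * m) := by
  have : NeZero (n * m) := ⟨Nat.mul_ne_zero hn hm⟩
  obtain ⟨u, hu⟩ := ZMod.unitsMap_surjective (Dvd.intro m rfl : n ∣ n * m) (ZMod.unitOfCoprime k hk)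
  refine ⟨(u : ZMod (n * m)).val, ?_, ZMod.val_coe_unit_coprime u⟩
  have h1 := congrArg (fun z : (ZMod n)ˣ => (z : ZMod n)) hu
  simp only [ZMod.unitsMap_val, ZMod.coe_unitOfCoprime] at h1
  rw [← ZMod.natCast_eq_natCast_iff, ← h1]
  simp

/-- `Cyc p` in terms of automorphisms of `ℂ` -/
theorem cyc_of_map {p : ℕ} [Finite G] (hpG : p ∣ Nat.card G) {Ψ : G → ℂ} (hΨ : IsCharacter G Ψ) {ψ : A → ℂ}
    (hψ : IsCharacter A ψ) (hc : Cyc p ψ)
    (h : ∀ σ : ℂ ≃+* ℂ, (∀ x, σ (ψ x) = ψ x) → ∀ g, σ (Ψ g) = Ψ g) : Cyc p Ψ := by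
  intro k hk hkp g
  obtain ⟨k', h1, h2⟩ := exists_lift hk (Nat.card_pos (α := G)).ne' (Nat.card_pos (α := A)).ne'
  obtain ⟨σ, hσ⟩ := GaloisBasic.exists_ringEquiv_pow
    (Nat.mul_ne_zero (Nat.card_pos (α := G)).ne' (Nat.card_pos (α := A)).ne') h2
  have hσG : ∀ x, σ (Ψ x) = Ψ (x ^ k') := fun x => GaloisBasic.map_apply_card σ (fun z hz => hσ z (by
    rw [pow_mul, hz, one_pow])) hΨ x
  have hσA : ∀ x, σ (ψ x) = ψ (x ^ k') := fun x => GaloisBasic.map_apply_card σ (fun z hz => hσ z (by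
    rw [mul_comm, pow_mul, hz, one_pow])) hψ x
  have hkp' : k' ≡ 1 [MOD p] := (h1.of_dvd hpG).trans hkp
  have h3 : ∀ x, σ (ψ x) = ψ x := fun x => by
    rw [hσA]
    exact hc k' (h2.coprime_dvd_right (Dvd.intro_left _ rfl)) hkp' x
  have h4 := h σ h3 g
  rw [hσG] at h4
  rw [← h4]
  congr 1
  rw [← pow_mod_natCard, ← pow_mod_natCard g k', h1]

end tensor

end Cfsg.Agent.H125.PC
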